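import Mathlib
import Cfsg.Agent.Lib.Helper43.PSLGraphCent
import Cfsg.Agent.Lib.Helper43.PSLnAutKer
import Cfsg.Agent.Lib.Helper43.PSLnAutCard

/-!
# Graph automorphisms `X ↦ g X⁻ᵀ g⁻¹` of `PSL_n(F)`

General lemmas (any field): which automorphisms are of this form, when they are involutions,
their conjugates under `Inndiag` and their centralisers in `Inndiag`, all in terms of the
congruence action `g ↦ k g kᵀ`.
-/

set_option autoImplicit false

namespace Cfsg.Agent.Lib.Helper45.PSLGraph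

open scoped MatrixGroups Matrix
open Matrix Cfsg.Agent.Lib.Helper43

variable {n : ℕ} {F : Type*} [Field F]

/-- The graph automorphism `X ↦ g X⁻ᵀ g⁻¹`. -/
noncomputable def gaut (g : GL (Fin n) F) : MulAut (Matrix.ProjectiveSpecialLinearGroup (Fin n) F) :=
  pslDiag g * pslInvT

theorem isGraphAutClassPSL_iff (x : MulAut (Matrix.ProjectiveSpecialLinearGroup (Fin n) F)) :
    Cfsg.IsGraphAutClassPSL x ↔ 3 ≤ n ∧ ∃ g : GL (Fin n) F, x = gaut g := by
  unfold Cfsg.IsGraphAutClassPSL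
  constructor
  · rintro ⟨hn, δ, γ, hδ, hγ, rfl⟩
    rw [isInnerDiagonalAutPSL_iff] at hδ
    rw [isInverseTransposeAutPSL_iff] at hγ
    obtain ⟨g, rfl⟩ := hδ
    subst hγ
    exact ⟨hn, g, rfl⟩
  · rintro ⟨hn, g, rfl⟩
    exact ⟨hn, pslDiag g, pslInvT, (isInnerDiagonalAutPSL_iff _).mpr ⟨g, rfl⟩,
      (isInverseTransposeAutPSL_iff _).mpr rfl, rfl⟩

theorem gaut_conj (k g : GL (Fin n) F) :
    (pslDiag k : MulAut (Matrix.ProjectiveSpecialLinearGroup (Fin n) F)) * gaut g * (pslDiag k)⁻¹ =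
      gaut (k * g * glStar 1 k) := by
  unfold gaut
  rw [← pslTwist_one]
  exact pslDiag_conj_twisted 1 k g

theorem gaut_eq_iff (hn : 2 ≤ n) (a b : GL (Fin n) F) :
    gaut a = gaut b ↔ ∃ c : Fˣ, a = Matrix.GeneralLinearGroup.scalar (Fin n) c * b := by
  unfold gaut
  rw [← pslTwist_one]
  exact twisted_eq_iff hn 1 a b

theorem gaut_mul_self (g : GL (Fin n) F) :
    gaut g * gaut g = pslDiag (g * (glStar 1 g)⁻¹) := by
  unfold gaut
  rw [← pslTwist_one, twisted_mul_self, mul_one, map_one, mul_one]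

theorem gaut_ne_one (hn : 3 ≤ n) (g : GL (Fin n) F) : gaut g ≠ 1 := by
  have := pslDiag_mul_pslField_mul_pslInvT_ne_one hn g (1 : RingAut F)
  rwa [map_one, mul_one] at this

theorem pslDiag_scalar (hn : 2 ≤ n) (c : Fˣ) :
    (pslDiag (Matrix.GeneralLinearGroup.scalar (Fin n) c) :
      MulAut (Matrix.ProjectiveSpecialLinearGroup (Fin n) F)) = 1 := by
  have h : Matrix.GeneralLinearGroup.scalar (Fin n) c ∈
      (pslDiag : GL (Fin n) F →* MulAut (Matrix.ProjectiveSpecialLinearGroup (Fin n) F)).ker := by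
    rw [ker_pslDiag hn, Matrix.GeneralLinearGroup.center_eq_range_scalar]
    exact ⟨c, rfl⟩
  exact h

theorem orderOf_gaut_eq_two_iff (hn : 3 ≤ n) (g : GL (Fin n) F) :
    orderOf (gaut g) = 2 ↔
      ∃ c : Fˣ, g = Matrix.GeneralLinearGroup.scalar (Fin n) c * glStar 1 g := by
  have : Fact (Nat.Prime 2) := ⟨Nat.prime_two⟩
  rw [orderOf_eq_prime_iff, pow_two, gaut_mul_self]
  constructor
  · rintro ⟨h, -⟩
    have h1 : g * (glStar 1 g)⁻¹ ∈
        (pslDiag : GL (Fin n) F →* MulAut (Matrix.ProjectiveSpecialLinearGroup (Fin n) F)).ker := h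
    rw [ker_pslDiag (by omega), Matrix.GeneralLinearGroup.center_eq_range_scalar] at h1
    obtain ⟨c, hc⟩ := h1
    exact ⟨c, by rw [hc]; group⟩
  · rintro ⟨c, hc⟩
    refine ⟨?_, gaut_ne_one hn g⟩
    have h1 : g * (glStar 1 g)⁻¹ = Matrix.GeneralLinearGroup.scalar (Fin n) c := by
      rw [mul_inv_eq_iff_eq_mul]
      exact hc
    rw [h1, pslDiag_scalar (by omega)]

theorem mem_centralizer_gaut_iff (hn : 2 ≤ n) (k g : GL (Fin n) F) :
    (pslDiag k : MulAut (Matrix.ProjectiveSpecialLinearGroup (Fin n) F)) ∈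
        Subgroup.centralizer {gaut g} ↔
      ∃ c : Fˣ, k * g * glStar 1 k = Matrix.GeneralLinearGroup.scalar (Fin n) c * g := by
  rw [Subgroup.mem_centralizer_singleton_iff, ← mul_inv_eq_iff_eq_mul, gaut_conj, gaut_eq_iff hn]

theorem isConjUnder_gaut_iff (hn : 2 ≤ n) (g g' : GL (Fin n) F) :
    Cfsg.IsConjUnder (Cfsg.inndiagPSL n F) (gaut g) (gaut g') ↔
      ∃ (k : GL (Fin n) F) (c : Fˣ),
        g' = Matrix.GeneralLinearGroup.scalar (Fin n) c * (k * g * glStar 1 k) := by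
  unfold Cfsg.IsConjUnder
  rw [inndiagPSL_eq_range]
  constructor
  · rintro ⟨h, ⟨k, rfl⟩, hh⟩
    rw [gaut_conj, gaut_eq_iff hn] at hh
    exact ⟨k, hh⟩
  · rintro ⟨k, c, hc⟩
    refine ⟨pslDiag k, ⟨k, rfl⟩, ?_⟩
    rw [gaut_conj, gaut_eq_iff hn]
    exact ⟨c, hc⟩

/-! ### Matrix forms -/

theorem coe_scalar_mul (c : Fˣ) (g : GL (Fin n) F) :
    ((Matrix.GeneralLinearGroup.scalar (Fin n) c * g : GL (Fin n) F) :
      Matrix (Fin n) (Fin n) F) = (c : F) • (g : Matrix (Fin n) (Fin n) F) := by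
  rw [Units.val_mul, scalar_coe, Matrix.smul_mul, Matrix.one_mul]

theorem coe_congr (k g : GL (Fin n) F) :
    ((k * g * glStar 1 k : GL (Fin n) F) : Matrix (Fin n) (Fin n) F) =
      (k : Matrix (Fin n) (Fin n) F) * (g : Matrix (Fin n) (Fin n) F) *
        (k : Matrix (Fin n) (Fin n) F)ᵀ := by
  rw [Units.val_mul, Units.val_mul, glStar_one_coe]

theorem orderOf_gaut_eq_two_iff' (hn : 3 ≤ n) (g : GL (Fin n) F) :
    orderOf (gaut g) = 2 ↔
      ∃ c : Fˣ, (g : Matrix (Fin n) (Fin n) F) = (c : F) • (g : Matrix (Fin n) (Fin n) F)ᵀ := by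
  rw [orderOf_gaut_eq_two_iff hn]
  constructor
  · rintro ⟨c, hc⟩
    refine ⟨c, ?_⟩
    have := congrArg (fun x : GL (Fin n) F => (x : Matrix (Fin n) (Fin n) F)) hc
    simp only [coe_scalar_mul, glStar_one_coe] at this
    exact this
  · rintro ⟨c, hc⟩
    refine ⟨c, ?_⟩
    apply Units.ext
    rw [coe_scalar_mul, glStar_one_coe]
    exact hc

theorem mem_centralizer_gaut_iff' (hn : 2 ≤ n) (k g : GL (Fin n) F) :
    (pslDiag k : MulAut (Matrix.ProjectiveSpecialLinearGroup (Fin n) F)) ∈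
        Subgroup.centralizer {gaut g} ↔
      ∃ c : Fˣ, (k : Matrix (Fin n) (Fin n) F) * (g : Matrix (Fin n) (Fin n) F) *
        (k : Matrix (Fin n) (Fin n) F)ᵀ = (c : F) • (g : Matrix (Fin n) (Fin n) F) := by
  rw [mem_centralizer_gaut_iff hn]
  constructor
  · rintro ⟨c, hc⟩
    refine ⟨c, ?_⟩
    have := congrArg (fun x : GL (Fin n) F => (x : Matrix (Fin n) (Fin n) F)) hc
    simp only [coe_scalar_mul, coe_congr] at this
    exact this
  · rintro ⟨c, hc⟩
    refine ⟨c, ?_⟩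
    apply Units.ext
    rw [coe_scalar_mul, coe_congr]
    exact hc

theorem isConjUnder_gaut_iff' (hn : 2 ≤ n) (g g' : GL (Fin n) F) :
    Cfsg.IsConjUnder (Cfsg.inndiagPSL n F) (gaut g) (gaut g') ↔
      ∃ (k : GL (Fin n) F) (c : Fˣ), (g' : Matrix (Fin n) (Fin n) F) =
        (c : F) • ((k : Matrix (Fin n) (Fin n) F) * (g : Matrix (Fin n) (Fin n) F) *
          (k : Matrix (Fin n) (Fin n) F)ᵀ) := by
  rw [isConjUnder_gaut_iff hn]
  constructor
  · rintro ⟨k, c, hc⟩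
    refine ⟨k, c, ?_⟩
    have := congrArg (fun x : GL (Fin n) F => (x : Matrix (Fin n) (Fin n) F)) hc
    simp only [coe_scalar_mul, coe_congr] at this
    exact this
  · rintro ⟨k, c, hc⟩
    refine ⟨k, c, ?_⟩
    apply Units.ext
    rw [coe_scalar_mul, coe_congr]
    exact hc

end Cfsg.Agent.Lib.Helper45.PSLGraph
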