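import Mathlib
import Cfsg.Agent.Lib.Helper45.PSLGraph.Basic
import Cfsg.Agent.Lib.Helper45.SpInv.Congr

/-!
# Involutory graph automorphisms of `PSL_2m(F)`, `F` finite of characteristic two

Two `Inndiag`-classes, represented by `gaut J` and `gaut (J + E_cc)`, with centralisers in
`Inndiag` isomorphic to `Sp_2m(F)` and to the stabiliser in `Sp_2m(F)` of the vector `e_c`.
-/

set_option autoImplicit false
set_option linter.unusedSectionVars false

namespace Cfsg.Agent.Lib.Helper45.PSLGraph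

open scoped MatrixGroups Matrix
open Matrix Cfsg.Agent.Lib.Helper43 Cfsg.Agent.Lib.Helper45.SpInv

variable {n m : ℕ} {F : Type*} [Field F]

section Reindex

variable (e : Fin m ⊕ Fin m ≃ Fin n)

/-- Transport a matrix from `Fin m ⊕ Fin m` to `Fin n`. -/
def up (M : Matrix (Fin m ⊕ Fin m) (Fin m ⊕ Fin m) F) : Matrix (Fin n) (Fin n) F :=
  M.submatrix e.symm e.symm

/-- Transport a matrix from `Fin n` to `Fin m ⊕ Fin m`. -/
def down (k : Matrix (Fin n) (Fin n) F) : Matrix (Fin m ⊕ Fin m) (Fin m ⊕ Fin m) F :=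
  k.submatrix e e

theorem down_up (M : Matrix (Fin m ⊕ Fin m) (Fin m ⊕ Fin m) F) : down e (up e M) = M := by
  unfold down up
  rw [Matrix.submatrix_submatrix]
  simp

theorem up_down (k : Matrix (Fin n) (Fin n) F) : up e (down e k) = k := by
  unfold down up
  rw [Matrix.submatrix_submatrix]
  simp

theorem up_mul (M N : Matrix (Fin m ⊕ Fin m) (Fin m ⊕ Fin m) F) :
    up e (M * N) = up e M * up e N := by
  unfold up
  rw [Matrix.submatrix_mul_equiv]

theorem down_mul (M N : Matrix (Fin n) (Fin n) F) : down e (M * N) = down e M * down e N := by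
  unfold down
  rw [Matrix.submatrix_mul_equiv]

theorem up_one : up e (1 : Matrix (Fin m ⊕ Fin m) (Fin m ⊕ Fin m) F) = 1 := by
  unfold up
  rw [Matrix.submatrix_one_equiv]

theorem down_one : down e (1 : Matrix (Fin n) (Fin n) F) = 1 := by
  unfold down
  rw [Matrix.submatrix_one_equiv]

theorem up_transpose (M : Matrix (Fin m ⊕ Fin m) (Fin m ⊕ Fin m) F) :
    up e Mᵀ = (up e M)ᵀ := by
  unfold up
  rw [Matrix.transpose_submatrix]

theorem down_transpose (M : Matrix (Fin n) (Fin n) F) : down e Mᵀ = (down e M)ᵀ := by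
  unfold down
  rw [Matrix.transpose_submatrix]

theorem up_smul (c : F) (M : Matrix (Fin m ⊕ Fin m) (Fin m ⊕ Fin m) F) :
    up e (c • M) = c • up e M := rfl

theorem down_smul (c : F) (M : Matrix (Fin n) (Fin n) F) : down e (c • M) = c • down e M := rfl

theorem down_injective : Function.Injective (down (F := F) e) := by
  intro a b h
  rw [← up_down e a, ← up_down e b, h]

/-- The `GL_n` element of an invertible matrix over `Fin m ⊕ Fin m`. -/
def gOf (S S' : Matrix (Fin m ⊕ Fin m) (Fin m ⊕ Fin m) F) (h1 : S * S' = 1) (h2 : S' * S = 1) :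
    GL (Fin n) F :=
  ⟨up e S, up e S', by rw [← up_mul, h1, up_one], by rw [← up_mul, h2, up_one]⟩

theorem gOf_coe (S S' : Matrix (Fin m ⊕ Fin m) (Fin m ⊕ Fin m) F) (h1 : S * S' = 1)
    (h2 : S' * S = 1) : ((gOf e S S' h1 h2 : GL (Fin n) F) : Matrix (Fin n) (Fin n) F) = up e S :=
  rfl

/-- The symplectic group inside `GL_n`. -/
def spToGL : Matrix.symplecticGroup (Fin m) F →* GL (Fin n) F where
  toFun A := ⟨up e A.1, up e (A⁻¹).1, by
      rw [← up_mul]
      have : A.1 * (A⁻¹).1 = ((A * A⁻¹ : Matrix.symplecticGroup (Fin m) F) : Matrix _ _ F) := rfl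
      rw [this, mul_inv_cancel]
      exact up_one e, by
      rw [← up_mul]
      have : (A⁻¹).1 * A.1 = ((A⁻¹ * A : Matrix.symplecticGroup (Fin m) F) : Matrix _ _ F) := rfl
      rw [this, inv_mul_cancel]
      exact up_one e⟩
  map_one' := by
    apply Units.ext
    exact up_one e
  map_mul' A B := by
    apply Units.ext
    exact up_mul e A.1 B.1

theorem spToGL_coe (A : Matrix.symplecticGroup (Fin m) F) :
    ((spToGL e A : GL (Fin n) F) : Matrix (Fin n) (Fin n) F) = up e A.1 := rfl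

end Reindex

section CharTwo

variable [CharP F 2]

theorem unit_eq_one_of_sq {c : Fˣ} (h : (c : F) * (c : F) = 1) : c = 1 := by
  apply Units.ext
  exact eq_one_of_mul_self_eq_one h

/-- In characteristic two an involutory `gaut g` has `g` symmetric. -/
theorem symm_of_orderOf_gaut (hn : 3 ≤ n) (g : GL (Fin n) F) (h : orderOf (gaut g) = 2) :
    (g : Matrix (Fin n) (Fin n) F)ᵀ = (g : Matrix (Fin n) (Fin n) F) := by
  obtain ⟨c, hc⟩ := (orderOf_gaut_eq_two_iff' hn g).mp h
  have h1 : (g : Matrix (Fin n) (Fin n) F)ᵀ = (c : F) • (g : Matrix (Fin n) (Fin n) F) := by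
    have := congrArg Matrix.transpose hc
    rw [Matrix.transpose_smul, Matrix.transpose_transpose] at this
    exact this
  have h2 : (g : Matrix (Fin n) (Fin n) F) = ((c : F) * (c : F)) • (g : Matrix (Fin n) (Fin n) F) := by
    conv_lhs => rw [hc, h1]
    rw [smul_smul]
  have h3 : (c : F) * (c : F) = 1 := by
    by_contra hne
    have h4 : ((c : F) * (c : F) - 1) • (g : Matrix (Fin n) (Fin n) F) = 0 := by
      rw [sub_smul, one_smul, ← h2, sub_self]
    have h5 : (g : Matrix (Fin n) (Fin n) F) = 0 := by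
      rcases smul_eq_zero.mp h4 with h6 | h6
      · exact absurd (sub_eq_zero.mp h6) hne
      · exact h6
    exact gl_coe_ne_zero (by omega) g h5
  rw [h1, unit_eq_one_of_sq h3, Units.val_one, one_smul]

theorem orderOf_gaut_of_symm (hn : 3 ≤ n) (g : GL (Fin n) F)
    (h : (g : Matrix (Fin n) (Fin n) F)ᵀ = (g : Matrix (Fin n) (Fin n) F)) :
    orderOf (gaut g) = 2 := by
  rw [orderOf_gaut_eq_two_iff' hn]
  exact ⟨1, by rw [h, Units.val_one, one_smul]⟩

end CharTwo

theorem isConjUnder_symm {X : Type*} [Group X] (H : Subgroup X) {x y : X}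
    (h : Cfsg.IsConjUnder H x y) : Cfsg.IsConjUnder H y x := by
  obtain ⟨k, hk, rfl⟩ := h
  exact ⟨k⁻¹, H.inv_mem hk, by group⟩

section Main

variable [Fintype F] [CharP F 2] (e : Fin m ⊕ Fin m ≃ Fin n)

/-- Every involutory graph automorphism is `Inndiag`-conjugate to `gaut J` or `gaut (J+E_cc)`. -/
theorem conj_J_or_formC (hn : 3 ≤ n) (c₀ : Fin m ⊕ Fin m)
    (x : MulAut (Matrix.ProjectiveSpecialLinearGroup (Fin n) F))
    (hx : Cfsg.IsGraphAutClassPSL x) (hx2 : orderOf x = 2) :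
    Cfsg.IsConjUnder (Cfsg.inndiagPSL n F)
        (gaut (gOf e (Matrix.J (Fin m) F) (Matrix.J (Fin m) F) J_mul_J J_mul_J)) x ∨
      Cfsg.IsConjUnder (Cfsg.inndiagPSL n F)
        (gaut (gOf e (formC m F c₀) _ (formC_mul_inv c₀)
          (mul_eq_one_comm.mp (formC_mul_inv c₀)))) x := by
  obtain ⟨-, g, rfl⟩ := (isGraphAutClassPSL_iff x).mp hx
  have hsym := symm_of_orderOf_gaut hn g hx2
  set S : Matrix (Fin m ⊕ Fin m) (Fin m ⊕ Fin m) F := down e g.1 with hSdef
  have hS : Sᵀ = S := by rw [hSdef, ← down_transpose, hsym]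
  have hSi : S * down e (g⁻¹).1 = 1 := by
    rw [hSdef, ← down_mul]
    have : (g : Matrix (Fin n) (Fin n) F) * ((g⁻¹ : GL (Fin n) F) : Matrix (Fin n) (Fin n) F) = 1 := by
      rw [← Units.val_mul, mul_inv_cancel, Units.val_one]
    rw [this, down_one]
  -- a congruence `A S Aᵀ = T` with `T` invertible gives conjugacy
  have key : ∀ (T T' : Matrix (Fin m ⊕ Fin m) (Fin m ⊕ Fin m) F) (h1 : T * T' = 1)
      (h2 : T' * T = 1) (A : Matrix (Fin m ⊕ Fin m) (Fin m ⊕ Fin m) F), A * S * Aᵀ = T →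
      Cfsg.IsConjUnder (Cfsg.inndiagPSL n F) (gaut (gOf e T T' h1 h2)) (gaut g) := by
    intro T T' h1 h2 A hA
    apply isConjUnder_symm
    have hAdet : IsUnit A.det := by
      have h3 : IsUnit (A * S * Aᵀ).det := by
        rw [hA]
        exact (Matrix.isUnit_iff_isUnit_det T).mp (IsUnit.of_mul_eq_one _ h1)
      rw [Matrix.det_mul, Matrix.det_mul] at h3
      exact isUnit_of_mul_isUnit_left (isUnit_of_mul_isUnit_left h3)
    have hAinv : A * A⁻¹ = 1 := Matrix.mul_nonsing_inv A hAdet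
    have hAinv' : A⁻¹ * A = 1 := Matrix.nonsing_inv_mul A hAdet
    rw [isConjUnder_gaut_iff' (by omega)]
    refine ⟨⟨up e A, up e A⁻¹, by rw [← up_mul, hAinv, up_one],
      by rw [← up_mul, hAinv', up_one]⟩, 1, ?_⟩
    rw [Units.val_one, one_smul, gOf_coe]
    show up e T = up e A * (g : Matrix (Fin n) (Fin n) F) * (up e A)ᵀ
    rw [← hA, up_mul, up_mul, up_transpose, hSdef, up_down]
  by_cases hd : ∀ i, S i i = 0
  · left
    obtain ⟨A, hA⟩ := exists_congr_J hS hSi hd
    exact key _ _ _ _ A hA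
  · right
    push Not at hd
    obtain ⟨A, hA⟩ := exists_congr_formC c₀ hS hSi hd
    exact key _ _ _ _ A hA

/-- `gaut J` and `gaut (J + E_cc)` are not conjugate under `Inndiag`. -/
theorem not_conj_J_formC (hn : 3 ≤ n) (c₀ : Fin m ⊕ Fin m) :
    ¬ Cfsg.IsConjUnder (Cfsg.inndiagPSL n F)
        (gaut (gOf e (Matrix.J (Fin m) F) (Matrix.J (Fin m) F) J_mul_J J_mul_J))
        (gaut (gOf e (formC m F c₀) _ (formC_mul_inv c₀)
          (mul_eq_one_comm.mp (formC_mul_inv c₀)))) := by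
  rw [isConjUnder_gaut_iff' (by omega)]
  rintro ⟨k, c, hc⟩
  rw [gOf_coe, gOf_coe] at hc
  have h1 := congrArg (down e) hc
  rw [down_up, down_smul, down_mul, down_mul, down_up, down_transpose] at h1
  have h2 := congrFun (congrFun h1 c₀) c₀
  rw [formC_diag, Matrix.smul_apply, mul_J_mul_transpose_diag, smul_zero] at h2
  exact one_ne_zero h2

/-- The centraliser in `Inndiag` of `gaut S` for an invertible symmetric `S` whose isometry
group is the subgroup `H` of the symplectic group. -/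
theorem nonempty_centralizer_equiv (hn : 3 ≤ n)
    (S S' : Matrix (Fin m ⊕ Fin m) (Fin m ⊕ Fin m) F) (h1 : S * S' = 1) (h2 : S' * S = 1)
    (H : Subgroup (Matrix.symplecticGroup (Fin m) F))
    (hH : ∀ A : Matrix (Fin m ⊕ Fin m) (Fin m ⊕ Fin m) F, A * S * Aᵀ = S ↔
      ∃ h : A ∈ Matrix.symplecticGroup (Fin m) F,
        (⟨A, h⟩ : Matrix.symplecticGroup (Fin m) F) ∈ H) :
    Nonempty (↥(Cfsg.inndiagPSL n F ⊓ Subgroup.centralizer {gaut (gOf e S S' h1 h2)}) ≃* ↥H) := by
  have hS0 : S ≠ 0 := by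
    intro h0
    rw [h0, Matrix.zero_mul] at h1
    have hne : Nonempty (Fin m ⊕ Fin m) := ⟨e.symm ⟨0, by omega⟩⟩
    obtain ⟨i⟩ := hne
    have := congrFun (congrFun h1 i) i
    simp at this
  -- the homomorphism
  have hmem : ∀ A : ↥H, (pslDiag (spToGL e A.1) :
      MulAut (Matrix.ProjectiveSpecialLinearGroup (Fin n) F)) ∈
      Cfsg.inndiagPSL n F ⊓ Subgroup.centralizer {gaut (gOf e S S' h1 h2)} := by
    intro A
    refine Subgroup.mem_inf.mpr ⟨pslDiag_mem_inndiagPSL _, ?_⟩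
    rw [mem_centralizer_gaut_iff' (by omega)]
    refine ⟨1, ?_⟩
    rw [Units.val_one, one_smul, spToGL_coe, gOf_coe, ← up_transpose, ← up_mul, ← up_mul]
    congr 1
    exact (hH A.1.1).mpr ⟨A.1.2, A.2⟩
  let ψ : ↥H →* ↥(Cfsg.inndiagPSL n F ⊓ Subgroup.centralizer {gaut (gOf e S S' h1 h2)}) :=
    MonoidHom.codRestrict ((pslDiag.comp (spToGL e)).comp H.subtype) _ hmem
  have hψ : ∀ A : ↥H, ((ψ A : ↥(Cfsg.inndiagPSL n F ⊓
      Subgroup.centralizer {gaut (gOf e S S' h1 h2)})) :
      MulAut (Matrix.ProjectiveSpecialLinearGroup (Fin n) F)) = pslDiag (spToGL e A.1) :=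
    fun A => rfl
  refine ⟨(MulEquiv.ofBijective ψ ⟨?_, ?_⟩).symm⟩
  · -- injective
    intro A B hAB
    have h3 : (pslDiag (spToGL e A.1) :
        MulAut (Matrix.ProjectiveSpecialLinearGroup (Fin n) F)) = pslDiag (spToGL e B.1) := by
      rw [← hψ A, ← hψ B, hAB]
    obtain ⟨c, hc⟩ := (pslDiag_eq_iff (by omega) _ _).mp h3
    have h4 : A.1.1 = (c : F) • B.1.1 := by
      have := congrArg (fun x : GL (Fin n) F => down e (x : Matrix (Fin n) (Fin n) F)) hc
      simp only [coe_scalar_mul, spToGL_coe, down_smul, down_up] at this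
      exact this
    have hA := (hH A.1.1).mpr ⟨A.1.2, A.2⟩
    have hB := (hH B.1.1).mpr ⟨B.1.2, B.2⟩
    rw [h4, Matrix.transpose_smul, Matrix.smul_mul, Matrix.smul_mul, Matrix.mul_smul, hB,
      smul_smul] at hA
    have h5 : (c : F) * (c : F) = 1 := by
      by_contra hne
      have h6 : ((c : F) * (c : F) - 1) • S = 0 := by
        rw [sub_smul, one_smul, hA, sub_self]
      rcases smul_eq_zero.mp h6 with h7 | h7
      · exact hne (sub_eq_zero.mp h7)
      · exact hS0 h7
    rw [unit_eq_one_of_sq h5, Units.val_one, one_smul] at h4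
    exact Subtype.ext (Subtype.ext h4)
  · -- surjective
    rintro ⟨β, hβ⟩
    obtain ⟨hβ1, hβ2⟩ := Subgroup.mem_inf.mp hβ
    rw [inndiagPSL_eq_range] at hβ1
    obtain ⟨k, rfl⟩ := hβ1
    obtain ⟨c, hc⟩ := (mem_centralizer_gaut_iff' (by omega) k _).mp hβ2
    rw [gOf_coe] at hc
    have hc' := congrArg (down e) hc
    rw [down_smul, down_mul, down_mul, down_up, down_transpose] at hc'
    obtain ⟨d, hd⟩ := FiniteField.isSquare_of_char_two
      (CharP.ringChar_of_prime_eq_zero Nat.prime_two (CharTwo.two_eq_zero (R := F))) (c : F)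
    have hd0 : d ≠ 0 := by
      rintro rfl
      rw [mul_zero] at hd
      exact c.ne_zero hd
    set A : Matrix (Fin m ⊕ Fin m) (Fin m ⊕ Fin m) F := d⁻¹ • down e k.1 with hAdef
    have hA : A * S * Aᵀ = S := by
      rw [hAdef, Matrix.transpose_smul, Matrix.smul_mul, Matrix.smul_mul, Matrix.mul_smul, hc',
        smul_smul, smul_smul, hd]
      have : d⁻¹ * d⁻¹ * (d * d) = 1 := by field_simp
      rw [this, one_smul]
    obtain ⟨hAsp, hAH⟩ := (hH A).mp hA
    refine ⟨⟨⟨A, hAsp⟩, hAH⟩, ?_⟩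
    apply Subtype.ext
    rw [hψ]
    show (pslDiag (spToGL e ⟨A, hAsp⟩) :
      MulAut (Matrix.ProjectiveSpecialLinearGroup (Fin n) F)) = pslDiag k
    rw [pslDiag_eq_iff (by omega)]
    refine ⟨Units.mk0 d⁻¹ (inv_ne_zero hd0), ?_⟩
    apply Units.ext
    rw [coe_scalar_mul, spToGL_coe]
    show up e A = d⁻¹ • (k : Matrix (Fin n) (Fin n) F)
    rw [hAdef, up_smul, up_down]

end Main

end Cfsg.Agent.Lib.Helper45.PSLGraph
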